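import Cfsg.Agent.H15.RuI.D0

/-! Generated by tools/h0/tr.py. -/

set_option maxRecDepth 100000
set_option maxHeartbeats 0

namespace H15.RuI
open H16 H0.TR
open H15.R3

theorem p2t_lt : H16.allL (ltAll 5) p2t_W = true := by decide +kernel
theorem p2_r_0_0 : allZ (resEnt p2t_P p2P p2E p2I (nat_lit 2304) (nat_lit 1280) (nat_lit 0)) (nat_lit 0) (nat_lit 1280) = true := by decide +kernel
theorem p2_r_1_0 : allZ (resEnt p2t_P p2P p2E p2I (nat_lit 2304) (nat_lit 1280) (nat_lit 1)) (nat_lit 0) (nat_lit 1280) = true := by decide +kernel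
theorem p2_r_2_0 : allZ (resEnt p2t_P p2P p2E p2I (nat_lit 2304) (nat_lit 1280) (nat_lit 2)) (nat_lit 0) (nat_lit 1280) = true := by decide +kernel
theorem p2_r_3_0 : allZ (resEnt p2t_P p2P p2E p2I (nat_lit 2304) (nat_lit 1280) (nat_lit 3)) (nat_lit 0) (nat_lit 1280) = true := by decide +kernel
theorem p2_r_4_0 : allZ (resEnt p2t_P p2P p2E p2I (nat_lit 2304) (nat_lit 1280) (nat_lit 4)) (nat_lit 0) (nat_lit 1280) = true := by decide +kernel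
theorem p2_r_5_0 : allZ (resEnt p2t_P p2P p2E p2I (nat_lit 2304) (nat_lit 1280) (nat_lit 5)) (nat_lit 0) (nat_lit 1280) = true := by decide +kernel
theorem p2_r_6_0 : allZ (resEnt p2t_P p2P p2E p2I (nat_lit 2304) (nat_lit 1280) (nat_lit 6)) (nat_lit 0) (nat_lit 1280) = true := by decide +kernel
theorem p2_r_7_0 : allZ (resEnt p2t_P p2P p2E p2I (nat_lit 2304) (nat_lit 1280) (nat_lit 7)) (nat_lit 0) (nat_lit 1280) = true := by decide +kernel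
theorem p2_r_8_0 : allZ (resEnt p2t_P p2P p2E p2I (nat_lit 2304) (nat_lit 1280) (nat_lit 8)) (nat_lit 0) (nat_lit 1280) = true := by decide +kernel
theorem p2_r_9_0 : allZ (resEnt p2t_P p2P p2E p2I (nat_lit 2304) (nat_lit 1280) (nat_lit 9)) (nat_lit 0) (nat_lit 1280) = true := by decide +kernel
theorem p2_r_10_0 : allZ (resEnt p2t_P p2P p2E p2I (nat_lit 2304) (nat_lit 1280) (nat_lit 10)) (nat_lit 0) (nat_lit 1280) = true := by decide +kernel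
theorem p2_r_11_0 : allZ (resEnt p2t_P p2P p2E p2I (nat_lit 2304) (nat_lit 1280) (nat_lit 11)) (nat_lit 0) (nat_lit 1280) = true := by decide +kernel
theorem p2_b : neL H15.XF42.B (p2B.map p2E) = 0 ∧ ltAll 1280 p2B = 0 := by decide +kernel
theorem p2_p : allZ2 (pcEnt p2P (nat_lit 2) p2B p2C) 12 12 = true := by decide +kernel
theorem p2_e : H16.allL (ltAll 12) p2e = true := by decide +kernel
theorem p2l0_e_0 : allZ (dent p2l0 (wdsP p2P p2e) (nat_lit 1280)) (nat_lit 0) (nat_lit 1023) = true := by decide +kernel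
theorem p2l0_h : 0 < p2l0.n ∧ 0 < p2l0.K ∧ p2l0.Pt 0 < 1280 ∧ p2l0.Q (p2l0.Pt 0) = 0 := by decide +kernel
theorem p2l1_e_0 : allZ (dent p2l1 (wdsP p2P p2e) (nat_lit 1280)) (nat_lit 0) (nat_lit 3) = true := by decide +kernel
theorem p2l1_h : 0 < p2l1.n ∧ 0 < p2l1.K ∧ p2l1.Pt 0 < 1280 ∧ p2l1.Q (p2l1.Pt 0) = 0 := by decide +kernel
theorem p2_f1 : (Nat.ble p2l1.K 22 && Nat.ble (topK []) p2l1.K && fixLetters (wdsP p2P p2e) (topK []) (p2l1.Pt 0)) = true := by decide +kernel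
theorem p2_f0 : (Nat.ble p2l0.K 22 && Nat.ble (topK [p2l1]) p2l0.K && fixLetters (wdsP p2P p2e) (topK [p2l1]) (p2l0.Pt 0)) = true := by decide +kernel
theorem p2_c : chainCard [p2l0, p2l1] = 2 ^ 12 ∧ ¬ 2 ^ (12 + 1) ∣ 35942400 := by decide +kernel
theorem cv2r_lt : H16.allL (ltAll 5) cv2r_W = true := by decide +kernel
theorem cv2_c0 : (Nat.ble 12 12 && Nat.beq (ltAll 12 []) 0 && Nat.beq (cv2T0.chk H15.XF42.P p2P cv2r_P p2E 5 12 2 2 2 p2B 12 [] 0) 0) = true := by decide +kernel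
theorem ZS_lt : H16.allL (ltAll 5) ZS_W = true := by decide +kernel
theorem ZSl0_e_0 : allZ (dent ZSl0 ZS_P (nat_lit 2304)) (nat_lit 0) (nat_lit 324) = true := by decide +kernel
theorem ZSl0_h : 0 < ZSl0.n ∧ 0 < ZSl0.K ∧ ZSl0.Pt 0 < 2304 ∧ ZSl0.Q (ZSl0.Pt 0) = 0 := by decide +kernel
theorem ZSl1_e_0 : allZ (dent ZSl1 ZS_P (nat_lit 2304)) (nat_lit 0) (nat_lit 11) = true := by decide +kernel
theorem ZSl1_h : 0 < ZSl1.n ∧ 0 < ZSl1.K ∧ ZSl1.Pt 0 < 2304 ∧ ZSl1.Q (ZSl1.Pt 0) = 0 := by decide +kernel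
theorem ZSl2_e_0 : allZ (dent ZSl2 ZS_P (nat_lit 2304)) (nat_lit 0) (nat_lit 1) = true := by decide +kernel
theorem ZSl2_h : 0 < ZSl2.n ∧ 0 < ZSl2.K ∧ ZSl2.Pt 0 < 2304 ∧ ZSl2.Q (ZSl2.Pt 0) = 0 := by decide +kernel
theorem ZS_f2 : (Nat.ble ZSl2.K 4 && Nat.ble (topK []) ZSl2.K && fixLetters ZS_P (topK []) (ZSl2.Pt 0)) = true := by decide +kernel
theorem ZS_f1 : (Nat.ble ZSl1.K 4 && Nat.ble (topK [ZSl2]) ZSl1.K && fixLetters ZS_P (topK [ZSl2]) (ZSl1.Pt 0)) = true := by decide +kernel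
theorem ZS_f0 : (Nat.ble ZSl0.K 4 && Nat.ble (topK [ZSl1, ZSl2]) ZSl0.K && fixLetters ZS_P (topK [ZSl1, ZSl2]) (ZSl0.Pt 0)) = true := by decide +kernel
theorem ZS_c : chainCard [ZSl0, ZSl1, ZSl2] = 7800 ∧ topK [ZSl0, ZSl1, ZSl2] = 4 := by decide +kernel
theorem ZT_lt : H16.allL (ltAll 5) ZT_W = true := by decide +kernel
theorem ZTl0_e_0 : allZ (dent ZTl0 ZT_P (nat_lit 2304)) (nat_lit 0) (nat_lit 2303) = true := by decide +kernel
theorem ZTl0_h : 0 < ZTl0.n ∧ 0 < ZTl0.K ∧ ZTl0.Pt 0 < 2304 ∧ ZTl0.Q (ZTl0.Pt 0) = 0 := by decide +kernel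
theorem ZTl1_e_0 : allZ (dent ZTl1 ZT_P (nat_lit 2304)) (nat_lit 0) (nat_lit 77) = true := by decide +kernel
theorem ZTl1_h : 0 < ZTl1.n ∧ 0 < ZTl1.K ∧ ZTl1.Pt 0 < 2304 ∧ ZTl1.Q (ZTl1.Pt 0) = 0 := by decide +kernel
theorem ZTl2_e_0 : allZ (dent ZTl2 ZT_P (nat_lit 2304)) (nat_lit 0) (nat_lit 49) = true := by decide +kernel
theorem ZTl2_h : 0 < ZTl2.n ∧ 0 < ZTl2.K ∧ ZTl2.Pt 0 < 2304 ∧ ZTl2.Q (ZTl2.Pt 0) = 0 := by decide +kernel
theorem ZTl3_e_0 : allZ (dent ZTl3 ZT_P (nat_lit 2304)) (nat_lit 0) (nat_lit 1) = true := by decide +kernel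
theorem ZTl3_h : 0 < ZTl3.n ∧ 0 < ZTl3.K ∧ ZTl3.Pt 0 < 2304 ∧ ZTl3.Q (ZTl3.Pt 0) = 0 := by decide +kernel
theorem ZT_f3 : (Nat.ble ZTl3.K 8 && Nat.ble (topK []) ZTl3.K && fixLetters ZT_P (topK []) (ZTl3.Pt 0)) = true := by decide +kernel
theorem ZT_f2 : (Nat.ble ZTl2.K 8 && Nat.ble (topK [ZTl3]) ZTl2.K && fixLetters ZT_P (topK [ZTl3]) (ZTl2.Pt 0)) = true := by decide +kernel
theorem ZT_f1 : (Nat.ble ZTl1.K 8 && Nat.ble (topK [ZTl2, ZTl3]) ZTl1.K && fixLetters ZT_P (topK [ZTl2, ZTl3]) (ZTl1.Pt 0)) = true := by decide +kernel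
theorem ZT_f0 : (Nat.ble ZTl0.K 8 && Nat.ble (topK [ZTl1, ZTl2, ZTl3]) ZTl0.K && fixLetters ZT_P (topK [ZTl1, ZTl2, ZTl3]) (ZTl0.Pt 0)) = true := by decide +kernel
theorem ZT_c : chainCard [ZTl0, ZTl1, ZTl2, ZTl3] = 17971200 ∧ topK [ZTl0, ZTl1, ZTl2, ZTl3] = 8 := by decide +kernel
theorem zf : 0 < 2304 ∧ fixLetters ZS_P 4 0 = true := by decide +kernel
theorem zx_0 : allZ (fxEnt ZS_P (nat_lit 4) (nat_lit 0) (nat_lit 0)) (nat_lit 0) (nat_lit 2304) = true := by decide +kernel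
theorem Q0_lt : H16.allL (ltAll 5) Q0_W = true := by decide +kernel
theorem Q0_m_0_0 : allZ (matEnt (wdsP H15.XF42.P Q0_W) Q0_P (nat_lit 0)) (nat_lit 0) (nat_lit 2304) = true := by decide +kernel
theorem Q0_m_1_0 : allZ (matEnt (wdsP H15.XF42.P Q0_W) Q0_P (nat_lit 1)) (nat_lit 0) (nat_lit 2304) = true := by decide +kernel
theorem Q0_m_2_0 : allZ (matEnt (wdsP H15.XF42.P Q0_W) Q0_P (nat_lit 2)) (nat_lit 0) (nat_lit 2304) = true := by decide +kernel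
theorem Q0_m_3_0 : allZ (matEnt (wdsP H15.XF42.P Q0_W) Q0_P (nat_lit 3)) (nat_lit 0) (nat_lit 2304) = true := by decide +kernel
theorem Q0_m_4_0 : allZ (matEnt (wdsP H15.XF42.P Q0_W) Q0_P (nat_lit 4)) (nat_lit 0) (nat_lit 2304) = true := by decide +kernel
theorem Q0_m_5_0 : allZ (matEnt (wdsP H15.XF42.P Q0_W) Q0_P (nat_lit 5)) (nat_lit 0) (nat_lit 2304) = true := by decide +kernel
theorem Q0_m_6_0 : allZ (matEnt (wdsP H15.XF42.P Q0_W) Q0_P (nat_lit 6)) (nat_lit 0) (nat_lit 2304) = true := by decide +kernel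
theorem Q0_m_7_0 : allZ (matEnt (wdsP H15.XF42.P Q0_W) Q0_P (nat_lit 7)) (nat_lit 0) (nat_lit 2304) = true := by decide +kernel
theorem Q0_m_8_0 : allZ (matEnt (wdsP H15.XF42.P Q0_W) Q0_P (nat_lit 8)) (nat_lit 0) (nat_lit 2304) = true := by decide +kernel
theorem Q0_m_9_0 : allZ (matEnt (wdsP H15.XF42.P Q0_W) Q0_P (nat_lit 9)) (nat_lit 0) (nat_lit 2304) = true := by decide +kernel
theorem Q0_m_10_0 : allZ (matEnt (wdsP H15.XF42.P Q0_W) Q0_P (nat_lit 10)) (nat_lit 0) (nat_lit 2304) = true := by decide +kernel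
theorem Q0_m_11_0 : allZ (matEnt (wdsP H15.XF42.P Q0_W) Q0_P (nat_lit 11)) (nat_lit 0) (nat_lit 2304) = true := by decide +kernel
theorem Q0_m_12_0 : allZ (matEnt (wdsP H15.XF42.P Q0_W) Q0_P (nat_lit 12)) (nat_lit 0) (nat_lit 2304) = true := by decide +kernel
theorem Q0_m_13_0 : allZ (matEnt (wdsP H15.XF42.P Q0_W) Q0_P (nat_lit 13)) (nat_lit 0) (nat_lit 2304) = true := by decide +kernel
theorem Q0_m_14_0 : allZ (matEnt (wdsP H15.XF42.P Q0_W) Q0_P (nat_lit 14)) (nat_lit 0) (nat_lit 2304) = true := by decide +kernel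
theorem Q0_m_15_0 : allZ (matEnt (wdsP H15.XF42.P Q0_W) Q0_P (nat_lit 15)) (nat_lit 0) (nat_lit 2304) = true := by decide +kernel
theorem Q0_m_16_0 : allZ (matEnt (wdsP H15.XF42.P Q0_W) Q0_P (nat_lit 16)) (nat_lit 0) (nat_lit 2304) = true := by decide +kernel
theorem Q0_m_17_0 : allZ (matEnt (wdsP H15.XF42.P Q0_W) Q0_P (nat_lit 17)) (nat_lit 0) (nat_lit 2304) = true := by decide +kernel
theorem Q0_m_18_0 : allZ (matEnt (wdsP H15.XF42.P Q0_W) Q0_P (nat_lit 18)) (nat_lit 0) (nat_lit 2304) = true := by decide +kernel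
theorem Q0_m_19_0 : allZ (matEnt (wdsP H15.XF42.P Q0_W) Q0_P (nat_lit 19)) (nat_lit 0) (nat_lit 2304) = true := by decide +kernel
theorem Q0_m_20_0 : allZ (matEnt (wdsP H15.XF42.P Q0_W) Q0_P (nat_lit 20)) (nat_lit 0) (nat_lit 2304) = true := by decide +kernel
theorem Q0_m_21_0 : allZ (matEnt (wdsP H15.XF42.P Q0_W) Q0_P (nat_lit 21)) (nat_lit 0) (nat_lit 2304) = true := by decide +kernel
theorem c0e_0 : allZ (cEnt Q0_P (nat_lit 2304) (nat_lit 8) (nat_lit 14) (nat_lit 7) H15.XF42.B c0s) (nat_lit 0) (nat_lit 704) = true := by decide +kernel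
theorem c0e_1 : allZ (cEnt Q0_P (nat_lit 2304) (nat_lit 8) (nat_lit 14) (nat_lit 7) H15.XF42.B c0s) (nat_lit 704) (nat_lit 704) = true := by decide +kernel
theorem c0e_2 : allZ (cEnt Q0_P (nat_lit 2304) (nat_lit 8) (nat_lit 14) (nat_lit 7) H15.XF42.B c0s) (nat_lit 1408) (nat_lit 704) = true := by decide +kernel
theorem c0e_3 : allZ (cEnt Q0_P (nat_lit 2304) (nat_lit 8) (nat_lit 14) (nat_lit 7) H15.XF42.B c0s) (nat_lit 2112) (nat_lit 704) = true := by decide +kernel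
theorem c0e_4 : allZ (cEnt Q0_P (nat_lit 2304) (nat_lit 8) (nat_lit 14) (nat_lit 7) H15.XF42.B c0s) (nat_lit 2816) (nat_lit 704) = true := by decide +kernel
theorem c0e_5 : allZ (cEnt Q0_P (nat_lit 2304) (nat_lit 8) (nat_lit 14) (nat_lit 7) H15.XF42.B c0s) (nat_lit 3520) (nat_lit 704) = true := by decide +kernel
theorem c0e_6 : allZ (cEnt Q0_P (nat_lit 2304) (nat_lit 8) (nat_lit 14) (nat_lit 7) H15.XF42.B c0s) (nat_lit 4224) (nat_lit 704) = true := by decide +kernel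
theorem c0e_7 : allZ (cEnt Q0_P (nat_lit 2304) (nat_lit 8) (nat_lit 14) (nat_lit 7) H15.XF42.B c0s) (nat_lit 4928) (nat_lit 704) = true := by decide +kernel
theorem c0e_8 : allZ (cEnt Q0_P (nat_lit 2304) (nat_lit 8) (nat_lit 14) (nat_lit 7) H15.XF42.B c0s) (nat_lit 5632) (nat_lit 704) = true := by decide +kernel
theorem c0e_9 : allZ (cEnt Q0_P (nat_lit 2304) (nat_lit 8) (nat_lit 14) (nat_lit 7) H15.XF42.B c0s) (nat_lit 6336) (nat_lit 704) = true := by decide +kernel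
theorem c0e_10 : allZ (cEnt Q0_P (nat_lit 2304) (nat_lit 8) (nat_lit 14) (nat_lit 7) H15.XF42.B c0s) (nat_lit 7040) (nat_lit 704) = true := by decide +kernel
theorem c0e_11 : allZ (cEnt Q0_P (nat_lit 2304) (nat_lit 8) (nat_lit 14) (nat_lit 7) H15.XF42.B c0s) (nat_lit 7744) (nat_lit 704) = true := by decide +kernel

end H15.RuI
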