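import Cfsg.Agent.H15.RuI.D0

/-! Generated by tools/h0/tr.py. -/

set_option maxRecDepth 100000
set_option maxHeartbeats 0

namespace H15.RuI
open H16 H0.TR
open H15.R3

theorem c0e_12 : allZ (cEnt Q0_P (nat_lit 2304) (nat_lit 8) (nat_lit 14) (nat_lit 7) H15.XF42.B c0s) (nat_lit 8448) (nat_lit 704) = true := by decide +kernel
theorem c0e_13 : allZ (cEnt Q0_P (nat_lit 2304) (nat_lit 8) (nat_lit 14) (nat_lit 7) H15.XF42.B c0s) (nat_lit 9152) (nat_lit 704) = true := by decide +kernel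
theorem c0e_14 : allZ (cEnt Q0_P (nat_lit 2304) (nat_lit 8) (nat_lit 14) (nat_lit 7) H15.XF42.B c0s) (nat_lit 9856) (nat_lit 704) = true := by decide +kernel
theorem c0e_15 : allZ (cEnt Q0_P (nat_lit 2304) (nat_lit 8) (nat_lit 14) (nat_lit 7) H15.XF42.B c0s) (nat_lit 10560) (nat_lit 704) = true := by decide +kernel
theorem c0e_16 : allZ (cEnt Q0_P (nat_lit 2304) (nat_lit 8) (nat_lit 14) (nat_lit 7) H15.XF42.B c0s) (nat_lit 11264) (nat_lit 435) = true := by decide +kernel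
theorem c0y_lt : H16.allL (ltAll 5) c0y_W = true := by decide +kernel
theorem c0c : allZ (fun j => cjL Q0_P c0y_P 22 H15.XF42.B j [8] [8 + j]) 0 14 = true := by decide +kernel
theorem c0C_lt : H16.allL (ltAll 5) c0C_W = true := by decide +kernel
theorem c0Cl0_e_0 : allZ (dent c0Cl0 c0C_P (nat_lit 2304)) (nat_lit 0) (nat_lit 767) = true := by decide +kernel
theorem c0Cl0_h : 0 < c0Cl0.n ∧ 0 < c0Cl0.K ∧ c0Cl0.Pt 0 < 2304 ∧ c0Cl0.Q (c0Cl0.Pt 0) = 0 := by decide +kernel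
theorem c0Cl1_e_0 : allZ (dent c0Cl1 c0C_P (nat_lit 2304)) (nat_lit 0) (nat_lit 3) = true := by decide +kernel
theorem c0Cl1_h : 0 < c0Cl1.n ∧ 0 < c0Cl1.K ∧ c0Cl1.Pt 0 < 2304 ∧ c0Cl1.Q (c0Cl1.Pt 0) = 0 := by decide +kernel
theorem c0C_f1 : (Nat.ble c0Cl1.K 8 && Nat.ble (topK []) c0Cl1.K && fixLetters c0C_P (topK []) (c0Cl1.Pt 0)) = true := by decide +kernel
theorem c0C_f0 : (Nat.ble c0Cl0.K 8 && Nat.ble (topK [c0Cl1]) c0Cl0.K && fixLetters c0C_P (topK [c0Cl1]) (c0Cl0.Pt 0)) = true := by decide +kernel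
theorem c0C_c : chainCard [c0Cl0, c0Cl1] = 3072 ∧ topK [c0Cl0, c0Cl1] = 8 := by decide +kernel
theorem c0d : allZ (fun j => cjL Q0_P c0C_P 22 H15.XF42.B j [8] [8]) 0 8 = true := by decide +kernel
theorem c0i : ∀ k < 8, Nat.xor k 1 < 8 ∧ fixL Q0_P 22 H15.XF42.B [Nat.xor k 1, k] = 0 := by decide +kernel
theorem c0l_0 : allZ (liEnt c0s (nat_lit 14) (nat_lit 1) c0L) (nat_lit 0) (nat_lit 11700) = true := by decide +kernel
theorem c0nc : 4 ≤ 8 ∧ 8 ≤ 22 ∧ ∀ k < 8, allZ (fun j => cjL Q0_P Q0_P 4 H15.XF42.B k [j] (nth [] (nth [] c0nW k) j)) 0 4 = true := by decide +kernel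
theorem c0np : 4 ≤ 22 ∧ (∀ i < 4, ∀ j < 4, eqL Q0_P 4 H15.XF42.B [j, i] [i, j] = 0) ∧ ∀ i < 4, fixL Q0_P 4 H15.XF42.B (List.replicate 5 i) = 0 := by decide +kernel
theorem c0w : ∀ j < 14, 1 ≤ j → wdOK Q0_P ZS_P 4 (8 + j) 4 H15.XF42.B (nth [] c0V j) ∨
    wdOK Q0_P ZT_P 4 (8 + j) 8 H15.XF42.B (nth [] c0V j) := by decide +kernel
theorem c0a : 0 < 14 ∧ 35942400 = (11699 + 1) * 3072 ∧ ∀ k < c0L.length + 1, k ∣ 15600 → ¬ 15600 / k ∣ 3072 := by decide +kernel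
theorem c0q : nth [] cv2r_W 0 = nth [] Q0_W 8 ∧ ∀ k < 4, nth [] Q0_W k = nth [] Q0_W k := by decide +kernel
theorem Q1_lt : H16.allL (ltAll 5) Q1_W = true := by decide +kernel
theorem Q1_m_0_0 : allZ (matEnt (wdsP H15.XF42.P Q1_W) Q1_P (nat_lit 0)) (nat_lit 0) (nat_lit 2304) = true := by decide +kernel
theorem Q1_m_1_0 : allZ (matEnt (wdsP H15.XF42.P Q1_W) Q1_P (nat_lit 1)) (nat_lit 0) (nat_lit 2304) = true := by decide +kernel
theorem Q1_m_2_0 : allZ (matEnt (wdsP H15.XF42.P Q1_W) Q1_P (nat_lit 2)) (nat_lit 0) (nat_lit 2304) = true := by decide +kernel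
theorem Q1_m_3_0 : allZ (matEnt (wdsP H15.XF42.P Q1_W) Q1_P (nat_lit 3)) (nat_lit 0) (nat_lit 2304) = true := by decide +kernel
theorem Q1_m_4_0 : allZ (matEnt (wdsP H15.XF42.P Q1_W) Q1_P (nat_lit 4)) (nat_lit 0) (nat_lit 2304) = true := by decide +kernel
theorem Q1_m_5_0 : allZ (matEnt (wdsP H15.XF42.P Q1_W) Q1_P (nat_lit 5)) (nat_lit 0) (nat_lit 2304) = true := by decide +kernel
theorem Q1_m_6_0 : allZ (matEnt (wdsP H15.XF42.P Q1_W) Q1_P (nat_lit 6)) (nat_lit 0) (nat_lit 2304) = true := by decide +kernel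
theorem Q1_m_7_0 : allZ (matEnt (wdsP H15.XF42.P Q1_W) Q1_P (nat_lit 7)) (nat_lit 0) (nat_lit 2304) = true := by decide +kernel
theorem Q1_m_8_0 : allZ (matEnt (wdsP H15.XF42.P Q1_W) Q1_P (nat_lit 8)) (nat_lit 0) (nat_lit 2304) = true := by decide +kernel
theorem Q1_m_9_0 : allZ (matEnt (wdsP H15.XF42.P Q1_W) Q1_P (nat_lit 9)) (nat_lit 0) (nat_lit 2304) = true := by decide +kernel
theorem Q1_m_10_0 : allZ (matEnt (wdsP H15.XF42.P Q1_W) Q1_P (nat_lit 10)) (nat_lit 0) (nat_lit 2304) = true := by decide +kernel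
theorem Q1_m_11_0 : allZ (matEnt (wdsP H15.XF42.P Q1_W) Q1_P (nat_lit 11)) (nat_lit 0) (nat_lit 2304) = true := by decide +kernel
theorem Q1_m_12_0 : allZ (matEnt (wdsP H15.XF42.P Q1_W) Q1_P (nat_lit 12)) (nat_lit 0) (nat_lit 2304) = true := by decide +kernel
theorem c1e_0 : allZ (cEnt Q1_P (nat_lit 2304) (nat_lit 8) (nat_lit 5) (nat_lit 6) H15.XF42.B c1s) (nat_lit 0) (nat_lit 832) = true := by decide +kernel
theorem c1e_1 : allZ (cEnt Q1_P (nat_lit 2304) (nat_lit 8) (nat_lit 5) (nat_lit 6) H15.XF42.B c1s) (nat_lit 832) (nat_lit 832) = true := by decide +kernel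
theorem c1e_2 : allZ (cEnt Q1_P (nat_lit 2304) (nat_lit 8) (nat_lit 5) (nat_lit 6) H15.XF42.B c1s) (nat_lit 1664) (nat_lit 90) = true := by decide +kernel
theorem c1y_lt : H16.allL (ltAll 5) c1y_W = true := by decide +kernel
theorem c1c : allZ (fun j => cjL Q1_P c1y_P 13 H15.XF42.B j [8] [8 + j]) 0 5 = true := by decide +kernel
theorem c1C_lt : H16.allL (ltAll 5) c1C_W = true := by decide +kernel
theorem c1Cl0_e_0 : allZ (dent c1Cl0 c1C_P (nat_lit 2304)) (nat_lit 0) (nat_lit 1279) = true := by decide +kernel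
theorem c1Cl0_h : 0 < c1Cl0.n ∧ 0 < c1Cl0.K ∧ c1Cl0.Pt 0 < 2304 ∧ c1Cl0.Q (c1Cl0.Pt 0) = 0 := by decide +kernel
theorem c1Cl1_e_0 : allZ (dent c1Cl1 c1C_P (nat_lit 2304)) (nat_lit 0) (nat_lit 15) = true := by decide +kernel
theorem c1Cl1_h : 0 < c1Cl1.n ∧ 0 < c1Cl1.K ∧ c1Cl1.Pt 0 < 2304 ∧ c1Cl1.Q (c1Cl1.Pt 0) = 0 := by decide +kernel
theorem c1C_f1 : (Nat.ble c1Cl1.K 12 && Nat.ble (topK []) c1Cl1.K && fixLetters c1C_P (topK []) (c1Cl1.Pt 0)) = true := by decide +kernel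
theorem c1C_f0 : (Nat.ble c1Cl0.K 12 && Nat.ble (topK [c1Cl1]) c1Cl0.K && fixLetters c1C_P (topK [c1Cl1]) (c1Cl0.Pt 0)) = true := by decide +kernel
theorem c1C_c : chainCard [c1Cl0, c1Cl1] = 20480 ∧ topK [c1Cl0, c1Cl1] = 12 := by decide +kernel
theorem c1d : allZ (fun j => cjL Q1_P c1C_P 13 H15.XF42.B j [8] [8]) 0 12 = true := by decide +kernel
theorem c1i : ∀ k < 8, Nat.xor k 1 < 8 ∧ fixL Q1_P 13 H15.XF42.B [Nat.xor k 1, k] = 0 := by decide +kernel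
theorem c1l_0 : allZ (liEnt c1s (nat_lit 5) (nat_lit 1) c1L) (nat_lit 0) (nat_lit 1755) = true := by decide +kernel
theorem c1nc : 4 ≤ 8 ∧ 8 ≤ 13 ∧ ∀ k < 8, allZ (fun j => cjL Q1_P Q1_P 4 H15.XF42.B k [j] (nth [] (nth [] c1nW k) j)) 0 4 = true := by decide +kernel
theorem c1np : 4 ≤ 13 ∧ (∀ i < 4, ∀ j < 4, eqL Q1_P 4 H15.XF42.B [j, i] [i, j] = 0) ∧ ∀ i < 4, fixL Q1_P 4 H15.XF42.B (List.replicate 5 i) = 0 := by decide +kernel
theorem c1w : ∀ j < 5, 1 ≤ j → wdOK Q1_P ZS_P 4 (8 + j) 4 H15.XF42.B (nth [] c1V j) ∨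
    wdOK Q1_P ZT_P 4 (8 + j) 8 H15.XF42.B (nth [] c1V j) := by decide +kernel
theorem c1a : 0 < 5 ∧ 35942400 = (1754 + 1) * 20480 ∧ ∀ k < c1L.length + 1, k ∣ 15600 → ¬ 15600 / k ∣ 20480 := by decide +kernel
theorem c1q : nth [] cv2r_W 1 = nth [] Q1_W 8 ∧ ∀ k < 4, nth [] Q1_W k = nth [] Q0_W k := by decide +kernel

end H15.RuI
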